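import Groth.Agent.SGA6Ext.Alg

/-!
# The determinant of a split exact sequence with free kernel and free middle term
-/

set_option autoImplicit false
set_option linter.unusedSectionVars false
universe u

open TensorProduct

noncomputable section

namespace Groth.Agent.DetSplit

variable {R : Type u} [CommRing R] {M M'' : Type u} [AddCommGroup M] [Module R M]
  [AddCommGroup M''] [Module R M'']

open ExteriorAlgebra in
theorem contract_map_eq_zero (s : M'' →ₗ[R] M) (d : Module.Dual R M) (hd : ∀ z, d (s z) = 0)
    (y : ExteriorAlgebra R M'') :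
    CliffordAlgebra.contractLeft (R := R) (Q := (0 : QuadraticForm R M)) d (ExteriorAlgebra.map s y) = 0 := by
  induction y using CliffordAlgebra.left_induction with
  | algebraMap r => rw [AlgHom.commutes]; exact CliffordAlgebra.contractLeft_algebraMap _ _ _
  | add x y hx hy => rw [map_add, map_add, hx, hy, add_zero]
  | ι_mul x m hx =>
    rw [map_mul, show ExteriorAlgebra.map s (CliffordAlgebra.ι _ m) = ExteriorAlgebra.ι R (s m) from
      LinearMap.congr_fun (ExteriorAlgebra.map_comp_ι s) m]
    rw [CliffordAlgebra.contractLeft_ι_mul, hd, zero_smul, hx, mul_zero, sub_zero]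

/-- Wedging with part of a biorthogonal system is injective on what the functionals kill. -/
theorem eq_zero_of_prod_mul_eq_zero : ∀ (r : ℕ) (e : Fin r → M) (f : Fin r → Module.Dual R M),
    (∀ j k, f j (e k) = if j = k then 1 else 0) → ∀ y : ExteriorAlgebra R M,
      (∀ j, CliffordAlgebra.contractLeft (R := R) (Q := (0 : QuadraticForm R M)) (f j) y = 0) →
      (List.ofFn fun k => ExteriorAlgebra.ι R (e k)).prod * y = 0 → y = 0 := by
  intro r
  induction r with
  | zero => intro e f _ y _ h; simpa using h
  | succ r ih =>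
    intro e f hef y hy h
    rw [List.ofFn_succ, List.prod_cons, mul_assoc] at h
    refine ih (fun k => e k.succ) (fun j => f j.succ) (fun j k => by simp [hef]) y (fun j => hy _) ?_
    have h2 := congrArg (CliffordAlgebra.contractLeft (R := R) (Q := (0 : QuadraticForm R M)) (f 0)) h
    rw [map_zero, CliffordAlgebra.contractLeft_ι_mul, hef, if_pos rfl, one_smul] at h2
    have h3 : ∀ (k : ℕ) (v : Fin k → M), (∀ i, f 0 (v i) = 0) →
        CliffordAlgebra.contractLeft (R := R) (Q := (0 : QuadraticForm R M)) (f 0)
          ((List.ofFn fun i => ExteriorAlgebra.ι R (v i)).prod * y) = 0 := by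
      intro k
      induction k with
      | zero => intro v _; simpa using hy 0
      | succ k ihk =>
        intro v hv
        rw [List.ofFn_succ, List.prod_cons, mul_assoc, CliffordAlgebra.contractLeft_ι_mul, hv, zero_smul,
          ihk (fun i => v i.succ) (fun i => hv _), mul_zero, sub_zero]
    rw [h3 r _ fun k => by rw [hef, if_neg (Fin.succ_ne_zero k).symm], mul_zero, sub_zero] at h2
    exact h2

variable {r n : ℕ} (π : M →ₗ[R] M'') (s : M'' →ₗ[R] M) (i : (Fin r → R) →ₗ[R] M) (ρ : M →ₗ[R] (Fin r → R))

/-- Wedge with the image of the standard top form of the kernel. -/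
def psi (i : (Fin r → R) →ₗ[R] M) (s : M'' →ₗ[R] M) (N : ℕ) :
    ↥(⋀[R]^(N - r) M'') →ₗ[R] ↥(⋀[R]^N M) :=
  (SGA6Ext.wedge i r N (exteriorPower.ιMulti R r fun k => Pi.single k (1 : R))).comp
    (exteriorPower.map (N - r) s)

theorem psi_injective (hρi : ρ ∘ₗ i = LinearMap.id) (hρs : ρ ∘ₗ s = 0) (hs : π ∘ₗ s = LinearMap.id)
    (N : ℕ) (hN : r ≤ N) : Function.Injective (psi i s N) := by
  classical
  rw [injective_iff_map_eq_zero]
  intro z hz
  have h1 := congrArg Subtype.val hz
  rw [psi, LinearMap.comp_apply, SGA6Ext.coe_wedge i hN, exteriorPower.ιMulti_apply_coe,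
    ExteriorAlgebra.map_apply_ιMulti, SGA6Ext.coe_map, ExteriorAlgebra.ιMulti_apply] at h1
  have h2 : ExteriorAlgebra.map s (z : ExteriorAlgebra R M'') = 0 := by
    refine eq_zero_of_prod_mul_eq_zero r (fun k => i (Pi.single k 1)) (fun j => (LinearMap.proj j).comp ρ)
      (fun j k => ?_) _ (fun j => contract_map_eq_zero s _ (fun w => ?_) _) h1
    · rw [LinearMap.comp_apply, show ρ (i (Pi.single k 1)) = Pi.single k 1 from LinearMap.congr_fun hρi _,
        LinearMap.proj_apply, Pi.single_apply]
    · rw [LinearMap.comp_apply, show ρ (s w) = 0 from LinearMap.congr_fun hρs w]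
      rfl
  have h3 := congrArg (ExteriorAlgebra.map π) h2
  rw [← AlgHom.comp_apply, ExteriorAlgebra.map_comp_map, hs, ExteriorAlgebra.map_id, AlgHom.id_apply, map_zero] at h3
  exact Subtype.ext h3

theorem subsingleton_top (b : Module.Basis (Fin n) R M) {N : ℕ} (hN : n < N) : Subsingleton ↥(⋀[R]^N M) := by
  haveI : IsEmpty (Set.powersetCard (Fin n) N) := ⟨fun t => by
    have := Finset.card_le_univ (t : Finset (Fin n))
    rw [Set.powersetCard.card_eq, Fintype.card_fin] at this
    omega⟩
  exact (b.exteriorPower N).repr.toEquiv.subsingleton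

theorem nonempty_linearEquiv (b : Module.Basis (Fin n) R M) (hr : r ≤ n) (hρi : ρ ∘ₗ i = LinearMap.id)
    (hρs : ρ ∘ₗ s = 0) (hs : π ∘ₗ s = LinearMap.id) (hker : LinearMap.ker π ≤ LinearMap.range i) :
    Nonempty (↥(⋀[R]^(n - r) M'') ≃ₗ[R] R) := by
  classical
  -- high exterior powers of the quotient vanish
  have hvan : ∀ p < r, Subsingleton ↥(⋀[R]^(n - p) M'') := fun p hp => by
    haveI := subsingleton_top b (show n < r + (n - p) by omega)
    have h := psi_injective π s i ρ hρi hρs hs (r + (n - p)) (Nat.le_add_right _ _)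
    rw [← show r + (n - p) - r = n - p by omega]
    exact h.subsingleton
  have hstep : ∀ p ≤ r, SGA6Ext.F i p n = ⊤ := by
    intro p
    induction p with
    | zero => intro _; exact SGA6Ext.F_zero i n
    | succ p ih =>
      intro hp
      refine eq_top_iff.2 fun z hz => ?_
      rw [← ih (by omega)] at hz
      obtain ⟨t, ht⟩ := SGA6Ext.exists_lift i π s hker hs p n hz
      haveI := hvan p (by omega)
      haveI : Subsingleton (↥(⋀[R]^p (Fin r → R)) ⊗[R] ↥(⋀[R]^(n - p) M'')) :=
        ⟨fun x y => by
          have h0 : ∀ w : ↥(⋀[R]^p (Fin r → R)) ⊗[R] ↥(⋀[R]^(n - p) M''), w = 0 := fun w => by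
            induction w using TensorProduct.induction_on with
            | zero => rfl
            | tmul a c => rw [Subsingleton.elim c 0, TensorProduct.tmul_zero]
            | add a c ha hc => rw [ha, hc, add_zero]
          rw [h0 x, h0 y]⟩
      rwa [Subsingleton.elim t 0, map_zero, map_zero, sub_zero] at ht
  have hsurj : Function.Surjective (psi i s n) := fun z => by
    obtain ⟨t, ht⟩ := SGA6Ext.exists_lift i π s hker hs r n (hstep r le_rfl ▸ Submodule.mem_top : z ∈ SGA6Ext.F i r n)
    have hbot : SGA6Ext.F i (r + 1) n = ⊥ := by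
      rcases Nat.lt_or_ge n (r + 1) with h | h
      · exact SGA6Ext.F_eq_bot i h
      haveI := subsingleton_top (Pi.basisFun R (Fin r)) (Nat.lt_succ_self r)
      rw [eq_bot_iff]
      rintro _ ⟨w, rfl⟩
      induction w using TensorProduct.induction_on with
      | zero => simp
      | tmul a c => rw [Subsingleton.elim a 0, TensorProduct.zero_tmul, map_zero]; exact zero_mem _
      | add a c ha hc => rw [map_add]; exact add_mem ha hc
    rw [hbot, Submodule.mem_bot, sub_eq_zero] at ht
    rw [ht]
    clear ht
    induction t using TensorProduct.induction_on with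
    | zero => exact ⟨0, by simp⟩
    | add a c ha hc =>
      obtain ⟨x, hx⟩ := ha
      obtain ⟨y, hy⟩ := hc
      exact ⟨x + y, by rw [map_add, map_add, map_add, hx, hy]⟩
    | tmul a c =>
      obtain ⟨lam, rfl⟩ : ∃ lam : R, a = lam • exteriorPower.ιMulti R r fun k => Pi.single k (1 : R) := by
        let B := (Pi.basisFun R (Fin r)).exteriorPower r
        let t₀ : Set.powersetCard (Fin r) r := ⟨Finset.univ, by simp⟩
        have huniq : ∀ t : Set.powersetCard (Fin r) r, t = t₀ := fun t =>
          Subtype.ext (Finset.eq_univ_of_card _ ((Set.powersetCard.card_eq t).trans (Fintype.card_fin r).symm))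
        haveI : Unique (Set.powersetCard (Fin r) r) := ⟨⟨t₀⟩, huniq⟩
        refine ⟨B.repr a default, ?_⟩
        have hB : B default = exteriorPower.ιMulti R r fun k => Pi.single k (1 : R) := by
          rw [show (default : Set.powersetCard (Fin r) r) = t₀ from huniq _, exteriorPower.basis_apply]
          show exteriorPower.ιMulti R r _ = _
          congr 1
          funext k
          rw [Function.comp_apply, Pi.basisFun_apply]
          congr 1
          have := (Finset.orderEmbOfFin_unique (s := (Finset.univ : Finset (Fin r))) (by simp) (f := id)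
            (fun _ => Finset.mem_univ _) strictMono_id)
          exact (congrFun this k).symm
        conv_lhs => rw [← B.sum_repr a]
        rw [Fintype.sum_unique, hB]
      exact ⟨lam • c, by
        rw [LinearMap.lTensor_tmul, TensorProduct.lift.tmul, map_smul, map_smul, LinearMap.smul_apply]
        rfl⟩
  let top : Set.powersetCard (Fin n) n := ⟨Finset.univ, by simp⟩
  haveI : Unique (Set.powersetCard (Fin n) n) := ⟨⟨top⟩, fun t =>
    Subtype.ext (Finset.eq_univ_of_card _ ((Set.powersetCard.card_eq t).trans (Fintype.card_fin n).symm))⟩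
  exact ⟨(LinearEquiv.ofBijective (psi i s n) ⟨psi_injective π s i ρ hρi hρs hs n hr, hsurj⟩).trans
    ((b.exteriorPower n).repr.trans (Finsupp.LinearEquiv.finsuppUnique R R _))⟩

end Groth.Agent.DetSplit
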